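import Groth.Agent.DerLib.KInjRes
import Groth.Agent.DCohRestrLib.Comp
import Mathlib.CategoryTheory.Adjunction.Evaluation
import Mathlib.CategoryTheory.Generator.Presheaf
import Mathlib.CategoryTheory.Abelian.GrothendieckAxioms.FunctorCategory
import Mathlib.CategoryTheory.Abelian.GrothendieckCategory.Basic
import Mathlib.CategoryTheory.Abelian.FunctorCategory

/-!
# K-injective resolutions of diagrams of complexes on a thin category
-/

set_option autoImplicit false
set_option linter.style.haveILetI false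
universe v u

open CategoryTheory CategoryTheory.Limits Opposite

noncomputable section

namespace FilKInjLib

variable {A : Type u} [Category.{v} A] [Abelian A] [IsGrothendieckAbelian.{v} A]
  {C : Type v} [SmallCategory C] [Quiver.IsThin C]

omit [Quiver.IsThin C] in
theorem isGrothendieckAbelian_diagram : IsGrothendieckAbelian.{v} (Cᵒᵖ ⥤ A) where
  ab5OfSize := ⟨fun J _ _ => by haveI := AB5OfSize.ofShape (C := A) J; infer_instance⟩

instance : Quiver.IsThin Cᵒᵖ := fun _ _ => ⟨fun f g => Quiver.Hom.unop_inj (Subsingleton.elim _ _)⟩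

abbrev L (c : Cᵒᵖ) : A ⥤ Cᵒᵖ ⥤ A := evaluationLeftAdjoint A c

/-- The coproduct injection of the left adjoint of evaluation. -/
def inj {c e : Cᵒᵖ} (k : c ⟶ e) (x : A) : x ⟶ ((L c).obj x).obj e := Sigma.ι (fun _ : c ⟶ e => x) k

theorem inj_ext {c e : Cᵒᵖ} {x y : A} {g g' : ((L c).obj x).obj e ⟶ y} (h : ∀ k, inj k x ≫ g = inj k x ≫ g') : g = g' :=
  Sigma.hom_ext _ _ h

theorem inj_map {c e : Cᵒᵖ} (k : c ⟶ e) {x y : A} (f : x ⟶ y) :
    inj k x ≫ ((L c).map f).app e = f ≫ inj k y :=
  Sigma.ι_desc _ _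

theorem unit_map {c e : Cᵒᵖ} (k : c ⟶ e) (x : A) :
    (evaluationAdjunctionRight A c).unit.app x ≫ ((L c).obj x).map k = inj k x := by
  show (Sigma.ι (fun _ : c ⟶ c => x) (𝟙 c) ≫ (𝟙 ((L c).obj x) : _ ⟶ _).app c) ≫ Sigma.desc _ = _
  rw [NatTrans.id_app]
  erw [Category.comp_id, Sigma.ι_desc]
  exact congrArg (Sigma.ι (fun _ : c ⟶ e => x)) (Category.id_comp k)

theorem isIso_ι {c e : Cᵒᵖ} (k : c ⟶ e) (x : A) : IsIso (inj k x) := by
  refine ⟨Sigma.desc fun _ => 𝟙 x, Sigma.ι_desc _ _, inj_ext fun k' => ?_⟩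
  rw [Category.comp_id, Subsingleton.elim k k', ← Category.assoc,
    show inj k' x ≫ Sigma.desc (fun _ => 𝟙 x) = 𝟙 x from Sigma.ι_desc _ _, Category.id_comp]

theorem mono_left (c : Cᵒᵖ) {x y : A} (f : x ⟶ y) [Mono f] : Mono ((L c).map f) := by
  haveI : ∀ e, Mono (((L c).map f).app e) := fun e => by
    cases isEmpty_or_nonempty (c ⟶ e) with
    | inl h =>
      refine ⟨fun g g' _ => ?_⟩
      have hz : IsZero (((L c).obj x).obj e) :=
        (IsZero.iff_id_eq_zero _).2 (inj_ext fun k => isEmptyElim k)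
      exact hz.eq_of_tgt _ _
    | inr h =>
      obtain ⟨k⟩ := h
      haveI := isIso_ι k x
      haveI := isIso_ι k y
      haveI : Mono (inj k x ≫ ((L c).map f).app e) := by rw [inj_map]; infer_instance
      rw [show ((L c).map f).app e = inv (inj k x) ≫ (inj k x ≫ ((L c).map f).app e) from
        (IsIso.inv_hom_id_assoc _ _).symm]
      infer_instance
  exact NatTrans.mono_of_mono_app _

instance (c : Cᵒᵖ) : (L (A := A) c).Additive :=
  haveI := (evaluationAdjunctionRight A c).left_adjoint_additive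
  this

instance (c : Cᵒᵖ) : PreservesFiniteColimits (L (A := A) c) :=
  haveI := (evaluationAdjunctionRight A c).leftAdjoint_preservesColimits
  inferInstance

instance (c : Cᵒᵖ) : PreservesFiniteLimits (L (A := A) c) := by
  haveI : (L (A := A) c).PreservesMonomorphisms := ⟨fun f _ => mono_left c f⟩
  haveI := Functor.preservesHomology_of_preservesMonos_and_cokernels (L (A := A) c)
  exact Functor.preservesFiniteLimits_of_preservesHomology _

theorem exists_section {c d : Cᵒᵖ} (h : c ⟶ d) (F : Cᵒᵖ ⥤ A) [Injective F] :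
    ∃ s : F.obj d ⟶ F.obj c, s ≫ F.map h = 𝟙 _ := by
  let ac := evaluationAdjunctionRight A c
  let ad := evaluationAdjunctionRight A d
  let x := F.obj d
  let μ : (L d).obj x ⟶ (L c).obj x := (ad.homEquiv x _).symm (ac.unit.app x ≫ ((L c).obj x).map h)
  have hμ : ad.unit.app x ≫ μ.app d = ac.unit.app x ≫ ((L c).obj x).map h := by
    have := (ad.homEquiv x ((L c).obj x)).apply_symm_apply (ac.unit.app x ≫ ((L c).obj x).map h)
    rwa [Adjunction.homEquiv_unit] at this
  haveI : ∀ e, Mono (μ.app e) := fun e => by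
    cases isEmpty_or_nonempty (d ⟶ e) with
    | inl h' =>
      refine ⟨fun g g' _ => ?_⟩
      have hz : IsZero (((L d).obj x).obj e) :=
        (IsZero.iff_id_eq_zero _).2 (inj_ext fun k => isEmptyElim k)
      exact hz.eq_of_tgt _ _
    | inr h' =>
      obtain ⟨k⟩ := h'
      haveI := isIso_ι k x
      haveI := isIso_ι (h ≫ k) x
      have h1 : inj k x ≫ μ.app e = inj (h ≫ k) x := by
        rw [← unit_map, ← unit_map, Category.assoc, μ.naturality, reassoc_of% hμ, ← Functor.map_comp]
      haveI : Mono (inj k x ≫ μ.app e) := by rw [h1]; infer_instance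
      rw [show μ.app e = inv (inj k x) ≫ (inj k x ≫ μ.app e) from (IsIso.inv_hom_id_assoc _ _).symm]
      infer_instance
  haveI : Mono μ := NatTrans.mono_of_mono_app _
  let g := (ad.homEquiv x F).symm (𝟙 _)
  refine ⟨ac.homEquiv x F (Injective.factorThru g μ), ?_⟩
  have h2 : ad.homEquiv x F (μ ≫ Injective.factorThru g μ) = 𝟙 _ := by
    rw [Injective.comp_factorThru]
    exact Equiv.apply_symm_apply _ _
  rw [Adjunction.homEquiv_unit] at h2 ⊢
  rw [← h2]
  show (ac.unit.app x ≫ (Injective.factorThru g μ).app c) ≫ F.map h =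
    ad.unit.app x ≫ (μ ≫ Injective.factorThru g μ).app d
  rw [Category.assoc, ← NatTrans.naturality, ← Category.assoc, ← hμ, NatTrans.comp_app, Category.assoc]

/-- A diagram of complexes as a complex of diagrams. -/
def toCx (Q : Cᵒᵖ ⥤ CochainComplex A ℤ) : CochainComplex (Cᵒᵖ ⥤ A) ℤ where
  X n := Q ⋙ HomologicalComplex.eval A _ n
  d i j := { app := fun c => (Q.obj c).d i j, naturality := fun c d h => (Q.map h).comm i j }
  shape i j h := by ext c; exact (Q.obj c).shape i j h
  d_comp_d' i j k _ _ := by ext c; exact (Q.obj c).d_comp_d i j k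

/-- A complex of diagrams as a diagram of complexes. -/
def ofCx (I : CochainComplex (Cᵒᵖ ⥤ A) ℤ) : Cᵒᵖ ⥤ CochainComplex A ℤ where
  obj c := (((evaluation Cᵒᵖ A).obj c).mapHomologicalComplex _).obj I
  map {c d} h := { f := fun n => (I.X n).map h, comm' := fun i j _ => (I.d i j).naturality h }
  map_id c := by ext n; exact (I.X n).map_id c
  map_comp f g := by ext n; exact (I.X n).map_comp f g

/-- **Resolution of diagrams of complexes.** -/
theorem exists_resolution_diagram (Q : Cᵒᵖ ⥤ CochainComplex A ℤ) :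
    ∃ (I : Cᵒᵖ ⥤ CochainComplex A ℤ) (f : Q ⟶ I), (∀ c, (I.obj c).IsKInjective) ∧
      (∀ c n, Injective ((I.obj c).X n)) ∧ (∀ c, QuasiIso (f.app c)) ∧
      ∀ {c d : Cᵒᵖ} (h : c ⟶ d) (n : ℤ), ∃ s, s ≫ (I.map h).f n = 𝟙 _ := by
  haveI : IsGrothendieckAbelian.{v} (Cᵒᵖ ⥤ A) := isGrothendieckAbelian_diagram
  obtain ⟨I, f, hI, hf, hinj⟩ := Groth.Agent.DerLib.KInjRes.exists_resolution (toCx Q)
  haveI := hI
  haveI : QuasiIso f := (HomologicalComplex.mem_quasiIso_iff _).1 hf.2
  refine ⟨ofCx I, { app := fun c => { f := fun n => (f.f n).app c, comm' := fun i j _ => ?_ }, naturality := ?_ }, fun c => ?_, fun c n => ?_, fun c => ?_, fun {c d} h n => ?_⟩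
  · exact congrArg (fun t : (toCx Q).X i ⟶ I.X j => t.app c) (f.comm i j)
  · intro c d h
    ext n
    exact (f.f n).naturality h
  · exact Groth.Agent.DCohRestrLib.isKInjective_map (evaluationAdjunctionRight A c) I
  · haveI := hinj n
    exact Injective.injective_of_adjoint (evaluationAdjunctionRight A c) (I.X n)
  · exact HomologicalComplex.quasiIso_map_of_preservesHomology f ((evaluation Cᵒᵖ A).obj c)
  · haveI := hinj n
    exact exists_section h (I.X n)

end FilKInjLib
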