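import Groth.Agent.FilKInjLib.Split
import Groth.Agent.FilKInjLib.Functor
import Groth.Prelude.Def_SpSeq

/-!
# Embedding a filtered complex into a filtered complex with K-injective pieces
-/

set_option autoImplicit false
set_option linter.style.haveILetI false
universe v u

open CategoryTheory CategoryTheory.Limits Opposite

noncomputable section

namespace FilKInjLib

variable {A : Type u} [Category.{v} A] [Abelian A]

abbrev Idx : Type v := ULift.{v} (WithTop ℤ)

abbrev top : Idx.{v}ᵒᵖ := op ⟨⊤⟩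

abbrev pt (p : ℤ) : Idx.{v}ᵒᵖ := op ⟨(p : WithTop ℤ)⟩

abbrev toPt (p : ℤ) : top.{v} ⟶ pt.{v} p := (homOfLE (show (⟨(p : WithTop ℤ)⟩ : Idx.{v}) ≤ ⟨⊤⟩ from le_top (α := WithTop ℤ))).op

abbrev transPt {p q : ℤ} (h : p ≤ q) : pt.{v} q ⟶ pt.{v} p :=
  (homOfLE (show (⟨(p : WithTop ℤ)⟩ : Idx.{v}) ≤ ⟨(q : WithTop ℤ)⟩ from WithTop.coe_le_coe.2 h)).op

section Diag

variable (K : SpSeq.FilCx A)

/-- The filtration, completed by `⊥` at infinity. -/
def sub (x : Idx.{v}) : Subobject K.obj := WithTop.recTopCoe ⊥ K.fil x.down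

theorem sub_anti {x y : Idx.{v}} (h : x ≤ y) : sub K y ≤ sub K x := by
  obtain ⟨x⟩ := x
  obtain ⟨y⟩ := y
  induction y using WithTop.recTopCoe with
  | top => exact bot_le
  | coe q =>
    induction x using WithTop.recTopCoe with
    | top => exact absurd (show (⊤ : WithTop ℤ) ≤ (q : WithTop ℤ) from h) (by simp)
    | coe p => exact K.anti (WithTop.coe_le_coe.1 (show (p : WithTop ℤ) ≤ q from h))

/-- The diagram of the quotients. -/
def diag : Idx.{v}ᵒᵖ ⥤ CochainComplex A ℤ where
  obj c := cokernel (sub K c.unop).arrow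
  map {c d} h := cokernel.desc _ (cokernel.π _) (by
    rw [← Subobject.ofLE_arrow (sub_anti K (leOfHom h.unop)), Category.assoc, cokernel.condition, comp_zero])
  map_id c := by apply coequalizer.hom_ext; simp
  map_comp f g := by apply coequalizer.hom_ext; simp

theorem isIso_π_top : IsIso (cokernel.π (sub K (top.{v}).unop).arrow) := by
  have h0 : (sub K (top.{v}).unop).arrow = 0 := Subobject.bot_arrow
  refine ⟨cokernel.desc _ (𝟙 _) (by rw [h0, zero_comp]), cokernel.π_desc _ _ _, coequalizer.hom_ext ?_⟩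
  erw [← Category.assoc, cokernel.π_desc, Category.id_comp, Category.comp_id]

end Diag

theorem shortExact_cokernel {X Y : CochainComplex A ℤ} (f : X ⟶ Y) [Mono f] :
    (ShortComplex.mk f (cokernel.π f) (cokernel.condition f)).ShortExact where
  exact := ShortComplex.exact_of_g_is_cokernel _ (cokernelIsCokernel f)
  mono_f := ‹Mono f›
  epi_g := inferInstanceAs (Epi (cokernel.π f))

variable [IsGrothendieckAbelian.{v} A]

theorem exists_filtered_embedding (K : SpSeq.FilCx A) :
    ∃ (J : SpSeq.FilCx A) (j : K ⟶ J),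
      (∀ n p : ℤ, Injective (J.obj.X n) ∧ Injective ((J.XFil n).step p) ∧ Injective ((J.XFil n).quot p) ∧
        ∀ (p' : ℤ) (h : p ≤ p'), Injective (cokernel ((J.XFil n).stepLE h))) ∧
      (CochainComplex.IsKInjective J.obj ∧ ∀ p : ℤ, CochainComplex.IsKInjective (J.step p) ∧
        CochainComplex.IsKInjective (J.quot p) ∧
        ∀ (p' : ℤ) (h : p ≤ p'), CochainComplex.IsKInjective (cokernel (J.stepLE h))) ∧
      QuasiIso j.hom ∧
      (∀ p : ℤ, ∃ jp : K.step p ⟶ J.step p, jp ≫ (J.fil p).arrow = (K.fil p).arrow ≫ j.hom ∧ QuasiIso jp ∧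
        (∀ (p' : ℤ) (h : p ≤ p'), ∃ (jp' : K.step p' ⟶ J.step p') (jg : cokernel (K.stepLE h) ⟶ cokernel (J.stepLE h)),
          jp' ≫ (J.fil p').arrow = (K.fil p').arrow ≫ j.hom ∧ jp' ≫ J.stepLE h = K.stepLE h ≫ jp ∧
          cokernel.π (K.stepLE h) ≫ jg = jp ≫ cokernel.π (J.stepLE h) ∧ QuasiIso jg)) ∧
      (∀ p : ℤ, ∃ jq : K.quot p ⟶ J.quot p,
        cokernel.π (K.fil p).arrow ≫ jq = j.hom ≫ cokernel.π (J.fil p).arrow ∧ QuasiIso jq) := by
  obtain ⟨I, f, hK, hinj, hf, hsec⟩ := exists_resolution_diagram (C := Idx.{v}) (diag K)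
  haveI := hK
  haveI := hf
  haveI : ∀ c n, Injective ((I.obj c).X n) := hinj
  let J₀ := I.obj top
  let π : ∀ p : ℤ, J₀ ⟶ I.obj (pt p) := fun p => I.map (toPt p)
  have hanti : Antitone fun p => kernelSubobject (π p) := fun p q h => by
    refine le_kernelSubobject _ _ ?_
    rw [show π p = π q ≫ I.map (transPt h) by
      show I.map (toPt p) = I.map (toPt q) ≫ I.map (transPt h)
      rw [← I.map_comp]; exact congrArg I.map (Subsingleton.elim _ _),
      ← Category.assoc, kernelSubobject_arrow_comp, zero_comp]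
  let J : SpSeq.FilCx A := ⟨J₀, fun p => kernelSubobject (π p), hanti⟩
  haveI := isIso_π_top.{v} K
  let q₀ : K.obj ⟶ (diag K).obj top := cokernel.π (sub K (top.{v}).unop).arrow
  let jh : K.obj ⟶ J₀ := q₀ ≫ f.app top
  haveI : QuasiIso q₀ := inferInstanceAs (QuasiIso (cokernel.π (sub K (top.{v}).unop).arrow))
  have hjq : ∀ p : ℤ, jh ≫ π p = cokernel.π (K.fil p).arrow ≫ f.app (pt p) := fun p => by
    show (q₀ ≫ f.app top) ≫ I.map (toPt p) = _
    rw [Category.assoc, ← f.naturality, ← Category.assoc]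
    congr 1
    exact cokernel.π_desc _ _ _
  have hz : ∀ p : ℤ, ((K.fil p).arrow ≫ jh) ≫ π p = 0 := fun p => by
    rw [Category.assoc, hjq, ← Category.assoc, cokernel.condition, zero_comp]
  let jp : ∀ p : ℤ, K.step p ⟶ J.step p := fun p => factorThruKernelSubobject (π p) _ (hz p)
  have hjp : ∀ p, jp p ≫ (J.fil p).arrow = (K.fil p).arrow ≫ jh := fun p =>
    factorThruKernelSubobject_comp_arrow _ _ _
  let j : K ⟶ J := ⟨jh, fun p => Subobject.le_of_comm
    ((Subobject.isPullback jh (J.fil p)).lift (jp p) (K.fil p).arrow (hjp p))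
    ((Subobject.isPullback jh (J.fil p)).lift_snd _ _ _)⟩
  -- the short exact sequences
  let SJ : ℤ → ShortComplex (CochainComplex A ℤ) := fun p =>
    ShortComplex.mk (J.fil p).arrow (π p) (kernelSubobject_arrow_comp (π p))
  have hepi : ∀ p, Epi (π p) := fun p => by
    haveI : ∀ n, Epi ((π p).f n) := fun n => by
      obtain ⟨s, hs⟩ := hsec (toPt p) n
      exact epi_of_epi_fac hs
    exact HomologicalComplex.epi_of_epi_f _ inferInstance
  have hex : ∀ p, (SJ p).Exact := fun p => ShortComplex.exact_of_f_is_kernel _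
    (KernelFork.IsLimit.ofι' _ _ fun g hg =>
      ⟨factorThruKernelSubobject (π p) g hg, factorThruKernelSubobject_comp_arrow _ _ _⟩)
  have hSJ : ∀ p, (SJ p).ShortExact := fun p =>
    { exact := hex p, mono_f := inferInstanceAs (Mono (J.fil p).arrow), epi_g := hepi p }
  let σ : ∀ p n, ((SJ p).map (HomologicalComplex.eval A (ComplexShape.up ℤ) n)).Splitting := fun p n =>
    ShortComplex.Splitting.ofExactOfSection _ (map_shortExact (hSJ p) n).exact
      (hsec (toPt p) n).choose (hsec (toPt p) n).choose_spec (map_shortExact (hSJ p) n).mono_f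
  have hstep : ∀ p n, Injective ((J.step p).X n) := fun p n =>
    haveI : Injective ((SJ p).X₂.X n) := hinj top n
    injective_X₁ (σ p) n
  have hstepK : ∀ p, CochainComplex.IsKInjective (J.step p) := fun p =>
    isKInjective_X₁ (SJ p) (σ p) (hK top) (hK (pt p))
  let e : ∀ p, J.quot p ≅ I.obj (pt p) := fun p =>
    IsColimit.coconePointUniqueUpToIso (cokernelIsCokernel _) (hSJ p).gIsCokernel
  have he : ∀ p, cokernel.π (J.fil p).arrow ≫ (e p).hom = π p := fun p =>
    IsColimit.comp_coconePointUniqueUpToIso_hom (cokernelIsCokernel _) _ WalkingParallelPair.one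
  have hgrS : ∀ {p q : ℤ} (h : p ≤ q),
      (ShortComplex.mk (J.stepLE h) (cokernel.π (J.stepLE h)) (cokernel.condition _)).ShortExact :=
    fun h => shortExact_cokernel _
  have hgr : ∀ {p q : ℤ} (h : p ≤ q) (n : ℤ), Injective ((cokernel (J.stepLE h)).X n) := fun {p q} h n =>
    haveI := hstep p n
    haveI := hstep q n
    injective_X₃ (hgrS h) n
  have hgrK : ∀ {p q : ℤ} (h : p ≤ q), CochainComplex.IsKInjective (cokernel (J.stepLE h)) := fun {p q} h =>
    haveI : ∀ n, Injective ((ShortComplex.mk (J.stepLE h) (cokernel.π (J.stepLE h)) (cokernel.condition _)).X₁.X n) :=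
      hstep q
    isKInjective_X₃' (hgrS h) (hstepK q) (hstepK p)
  let eu : ∀ n p, (J.XFil n).step p ≅ (J.step p).X n := fun n p => Subobject.underlyingIso ((J.fil p).arrow.f n)
  have heu : ∀ n p, (eu n p).hom ≫ (J.fil p).arrow.f n = (J.filX p n).arrow := fun n p =>
    Subobject.underlyingIso_hom_comp_eq_mk _
  refine ⟨J, j, fun n p => ⟨hinj top n, ?_, ?_, fun p' h => ?_⟩, ⟨hK top, fun p => ⟨hstepK p, ?_, fun p' h => hgrK h⟩⟩,
    ?_, fun p => ⟨jp p, hjp p, ?_, fun p' h => ?_⟩, fun p => ?_⟩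
  · haveI := hstep p n
    exact Injective.of_iso (eu n p).symm inferInstance
  · have hI : Injective ((J.quot p).X n) :=
      Injective.of_iso ((HomologicalComplex.eval A _ n).mapIso (e p)).symm (hinj (pt p) n)
    let c₁ : (J.XFil n).quot p ≅ cokernel ((J.fil p).arrow.f n) :=
      cokernel.mapIso _ _ (eu n p) (Iso.refl _) ((Category.comp_id _).trans (heu n p).symm)
    exact Injective.of_iso ((PreservesCokernel.iso (HomologicalComplex.eval A _ n) (J.fil p).arrow) ≪≫ c₁.symm) hI
  · let c₁ : cokernel ((J.XFil n).stepLE h) ≅ cokernel ((J.stepLE h).f n) :=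
      cokernel.mapIso _ _ (eu n p') (eu n p) (by
        rw [← cancel_mono ((J.fil p).arrow.f n), Category.assoc, heu, Category.assoc, ← HomologicalComplex.comp_f,
          Subobject.ofLE_arrow, heu]
        exact Subobject.ofLE_arrow _)
    exact Injective.of_iso ((PreservesCokernel.iso (HomologicalComplex.eval A _ n) (J.stepLE h)) ≪≫ c₁.symm) (hgr h n)
  · exact CochainComplex.isKInjective_of_iso (e p).symm
  · show QuasiIso (q₀ ≫ f.app top)
    infer_instance
  · let φ : ShortComplex.mk (K.fil p).arrow (cokernel.π _) (cokernel.condition _) ⟶ SJ p :=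
      { τ₁ := jp p, τ₂ := jh, τ₃ := f.app (pt p), comm₁₂ := hjp p, comm₂₃ := hjq p }
    exact quasiIso_τ₁ φ (shortExact_cokernel _) (hSJ p) (inferInstanceAs (QuasiIso (q₀ ≫ f.app top))) (hf (pt p))
  · have hcomm : jp p' ≫ J.stepLE h = K.stepLE h ≫ jp p := by
      rw [← cancel_mono (J.fil p).arrow, Category.assoc, Category.assoc, hjp,
        show J.stepLE h ≫ (J.fil p).arrow = (J.fil p').arrow from Subobject.ofLE_arrow _, hjp]
      exact (congrArg (· ≫ jh) (Subobject.ofLE_arrow (K.anti h)).symm).trans (Category.assoc _ _ _)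
    refine ⟨jp p', cokernel.map _ _ (jp p') (jp p) hcomm.symm, hjp p', hcomm, cokernel.π_desc _ _ _, ?_⟩
    let φ : ShortComplex.mk (K.stepLE h) (cokernel.π _) (cokernel.condition _) ⟶
        ShortComplex.mk (J.stepLE h) (cokernel.π _) (cokernel.condition _) :=
      { τ₁ := jp p', τ₂ := jp p, τ₃ := cokernel.map _ _ (jp p') (jp p) hcomm.symm,
        comm₁₂ := hcomm, comm₂₃ := (cokernel.π_desc _ _ _).symm }
    have hq : ∀ r, QuasiIso (jp r) := fun r =>
      quasiIso_τ₁ ({ τ₁ := jp r, τ₂ := jh, τ₃ := f.app (pt r), comm₁₂ := hjp r, comm₂₃ := hjq r } :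
          ShortComplex.mk (K.fil r).arrow (cokernel.π _) (cokernel.condition _) ⟶ SJ r)
        (shortExact_cokernel _) (hSJ r) (inferInstanceAs (QuasiIso (q₀ ≫ f.app top))) (hf (pt r))
    exact HomologicalComplex.HomologySequence.quasiIso_τ₃ φ (shortExact_cokernel _) (hgrS h) (hq p') (hq p)
  · refine ⟨(f.app (pt p) : K.quot p ⟶ I.obj (pt p)) ≫ (e p).inv, ?_, ?_⟩
    · have hπe : π p ≫ (e p).inv = cokernel.π (J.fil p).arrow := (Iso.comp_inv_eq _).2 (he p).symm
      exact (Category.assoc _ _ _).symm.trans ((congrArg (· ≫ (e p).inv) (hjq p).symm).trans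
        ((Category.assoc _ _ _).trans (congrArg (jh ≫ ·) hπe)))
    · haveI : QuasiIso (f.app (pt p) : K.quot p ⟶ I.obj (pt p)) := hf (pt p)
      haveI : QuasiIso (e p).inv := inferInstance
      exact quasiIso_comp (f.app (pt p) : K.quot p ⟶ I.obj (pt p)) (e p).inv

end FilKInjLib
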