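import Mathlib.Algebra.Homology.HomotopyCategory.KInjective
import Mathlib.Algebra.Homology.HomotopyCategory.DegreewiseSplit
import Mathlib.Algebra.Homology.HomologySequenceLemmas
import Mathlib.CategoryTheory.Abelian.DiagramLemmas.Four
import Mathlib.CategoryTheory.Triangulated.Orthogonal
import Mathlib.CategoryTheory.Preadditive.Injective.Basic

/-!
# Two out of three in short exact sequences of complexes
-/

set_option autoImplicit false
set_option linter.style.haveILetI false
universe v u

open CategoryTheory CategoryTheory.Limits HomologicalComplex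

noncomputable section

namespace FilKInjLib

variable {A : Type u} [Category.{v} A] [Abelian A]

theorem map_shortExact {S : ShortComplex (CochainComplex A ℤ)} (hS : S.ShortExact) (n : ℤ) :
    (S.map (eval A (ComplexShape.up ℤ) n)).ShortExact :=
  hS.map_of_exact _

theorem injective_X₃ {S : ShortComplex (CochainComplex A ℤ)} (hS : S.ShortExact) (n : ℤ)
    [Injective (S.X₁.X n)] [Injective (S.X₂.X n)] : Injective (S.X₃.X n) := by
  haveI : Injective (S.map (eval A (ComplexShape.up ℤ) n)).X₁ := ‹Injective (S.X₁.X n)›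
  let s := (map_shortExact hS n).splittingOfInjective
  haveI : Injective (S.map (eval A (ComplexShape.up ℤ) n)).X₂ := ‹Injective (S.X₂.X n)›
  exact Retract.injective ⟨s.s, (S.map (eval A (ComplexShape.up ℤ) n)).g, s.s_g⟩

theorem injective_X₁ {S : ShortComplex (CochainComplex A ℤ)}
    (σ : ∀ n, (S.map (eval A (ComplexShape.up ℤ) n)).Splitting) (n : ℤ)
    [Injective (S.X₂.X n)] : Injective (S.X₁.X n) :=
  Retract.injective (⟨(S.map (eval A (ComplexShape.up ℤ) n)).f, (σ n).r, (σ n).f_r⟩ :
    Retract (S.X₁.X n) (S.X₂.X n))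

theorem distinguished (S : ShortComplex (CochainComplex A ℤ)) (σ : ∀ n, (S.map (eval A (ComplexShape.up ℤ) n)).Splitting) :
    CochainComplex.trianglehOfDegreewiseSplit S σ ∈ Pretriangulated.distinguishedTriangles :=
  (HomotopyCategory.distinguished_iff_iso_trianglehOfDegreewiseSplit _).2 ⟨S, σ, ⟨Iso.refl _⟩⟩

theorem isKInjective_X₁ (S : ShortComplex (CochainComplex A ℤ)) (σ : ∀ n, (S.map (eval A (ComplexShape.up ℤ) n)).Splitting)
    (h₂ : S.X₂.IsKInjective) (h₃ : S.X₃.IsKInjective) : S.X₁.IsKInjective := by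
  rw [CochainComplex.isKInjective_iff_rightOrthogonal] at h₂ h₃ ⊢
  exact ObjectProperty.ext_of_isTriangulatedClosed₁ _ _ (distinguished S σ) h₂ h₃

theorem isKInjective_X₃ (S : ShortComplex (CochainComplex A ℤ)) (σ : ∀ n, (S.map (eval A (ComplexShape.up ℤ) n)).Splitting)
    (h₁ : S.X₁.IsKInjective) (h₂ : S.X₂.IsKInjective) : S.X₃.IsKInjective := by
  rw [CochainComplex.isKInjective_iff_rightOrthogonal] at h₁ h₂ ⊢
  exact ObjectProperty.ext_of_isTriangulatedClosed₃ _ _ (distinguished S σ) h₁ h₂

theorem isKInjective_X₃' {S : ShortComplex (CochainComplex A ℤ)} (hS : S.ShortExact)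
    [∀ n, Injective (S.X₁.X n)] (h₁ : S.X₁.IsKInjective) (h₂ : S.X₂.IsKInjective) : S.X₃.IsKInjective :=
  isKInjective_X₃ S (fun n => by
    haveI : Injective (S.map (eval A (ComplexShape.up ℤ) n)).X₁ := inferInstanceAs (Injective (S.X₁.X n))
    exact (map_shortExact hS n).splittingOfInjective) h₁ h₂

theorem quasiIso_τ₁ {S₁ S₂ : ShortComplex (CochainComplex A ℤ)} (φ : S₁ ⟶ S₂) (hS₁ : S₁.ShortExact) (hS₂ : S₂.ShortExact)
    (h₂ : QuasiIso φ.τ₂) (h₃ : QuasiIso φ.τ₃) : QuasiIso φ.τ₁ := by
  rw [quasiIso_iff]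
  intro j
  rw [quasiIsoAt_iff_isIso_homologyMap]
  have hij : (ComplexShape.up ℤ).Rel (j - 1) j := by show j - 1 + 1 = j; omega
  exact Abelian.isIso_of_epi_of_isIso_of_isIso_of_mono
    (R₁ := (HomologicalComplex.HomologySequence.composableArrows₅ hS₁ (j - 1) j hij).δ₀)
    (R₂ := (HomologicalComplex.HomologySequence.composableArrows₅ hS₂ (j - 1) j hij).δ₀)
    ((HomologicalComplex.HomologySequence.composableArrows₅_exact hS₁ (j - 1) j hij).δ₀)
    ((HomologicalComplex.HomologySequence.composableArrows₅_exact hS₂ (j - 1) j hij).δ₀)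
    (ComposableArrows.δ₀Functor.map (HomologicalComplex.HomologySequence.mapComposableArrows₅ φ hS₁ hS₂ (j - 1) j hij))
    (show Epi (homologyMap φ.τ₂ (j - 1)) from inferInstance) (show IsIso (homologyMap φ.τ₃ (j - 1)) from inferInstance)
    (show IsIso (homologyMap φ.τ₂ j) from inferInstance) (show Mono (homologyMap φ.τ₃ j) from inferInstance)

end FilKInjLib
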